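import Cfsg.Prelude.Def_TwoFusion
import Cfsg.Prelude.Def_Involutions
import Cfsg.Agent.Lib.PGroups.Omega
import Cfsg.Agent.Lib.ThompsonWielandt.Core
import Cfsg.Agent.Lib.SimsThree.Chain

/-!
# The single fixed point criterion: hypotheses and reductions of the rows to them

Owner: helper20.  `Crit H D`: every member of the normal set `D` of involutions fixes exactly one
point of `G / H`, and the product of two commuting members at one point fixes that point only.
-/

set_option autoImplicit false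
set_option linter.unusedSectionVars false
set_option linter.style.haveILetI false

namespace Cfsg.Agent.Lib.CritReduce20

variable {G : Type*} [Group G]

/-- The hypotheses of the single fixed point criterion. -/
structure Crit (H : Subgroup G) (D : Set G) : Prop where
  ne_top : H ≠ ⊤
  exists_mem : ∃ d ∈ D, d ∈ H
  invol : ∀ d ∈ D, orderOf d = 2
  conj : ∀ d ∈ D, ∀ g : G, g * d * g⁻¹ ∈ D
  meets : ∀ d ∈ D, ∃ g : G, g * d * g⁻¹ ∈ H
  single : ∀ d ∈ D, d ∈ H → ∀ g : G, g * d * g⁻¹ ∈ H → g ∈ H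
  prod : ∀ d ∈ D, ∀ d' ∈ D, d ∈ H → d' ∈ H → d ≠ d' → Commute d d' →
    Subgroup.centralizer ({d * d'} : Set G) ≤ H

/-- The conjugates of the involutions of `T`. -/
def involConj (T : Subgroup G) : Set G :=
  {d | ∃ t ∈ T, orderOf t = 2 ∧ ∃ g : G, d = g * t * g⁻¹}

theorem mem_centralizer_conj {x c d : G} (hc : c ∈ Subgroup.centralizer ({d} : Set G)) :
    x * c * x⁻¹ ∈ Subgroup.centralizer ({x * d * x⁻¹} : Set G) := by
  rw [Subgroup.mem_centralizer_singleton_iff] at hc ⊢
  calc x * c * x⁻¹ * (x * d * x⁻¹) = x * (c * d) * x⁻¹ := by group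
    _ = x * (d * c) * x⁻¹ := by rw [hc]
    _ = _ := by group

theorem centralizer_conj_le {x d : G} {M : Subgroup G} (hx : x ∈ M)
    (h : Subgroup.centralizer ({x * d * x⁻¹} : Set G) ≤ M) :
    Subgroup.centralizer ({d} : Set G) ≤ M := fun c hc => by
  have := M.mul_mem (M.mul_mem (M.inv_mem hx) (h (mem_centralizer_conj (x := x) hc))) hx
  simpa [mul_assoc] using this

section Closed

variable [Finite G] {T : Subgroup G} {S : Sylow 2 G} (hT : Cfsg.IsStronglyClosed T (S : Subgroup G))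
  {M : Subgroup G} (hSM : (S : Subgroup G) ≤ M)
  (hNS : Subgroup.normalizer ((S : Subgroup G) : Set G) ≤ M)
  (hC : ∀ t ∈ T, orderOf t = 2 → Subgroup.centralizer ({t} : Set G) ≤ M)
include hT hSM

/-- A 2-subgroup of `M` is conjugate in `M` into `S`. -/
theorem exists_conj_le {P : Subgroup G} (hP : IsPGroup 2 P) (hPM : P ≤ M) :
    ∃ m ∈ M, ∀ x ∈ P, m * x * m⁻¹ ∈ (S : Subgroup G) := by
  haveI : Fact (Nat.Prime 2) := ⟨Nat.prime_two⟩
  obtain ⟨Q, hQ⟩ := (hP.comap_subtype (K := M)).exists_le_sylow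
  obtain ⟨m, hm⟩ := MulAction.exists_smul_eq M Q (S.subtype hSM)
  refine ⟨m, m.2, fun x hx => ?_⟩
  have h1 : m * ⟨x, hPM hx⟩ * m⁻¹ ∈ ((m • Q : Sylow 2 M) : Subgroup M) := by
    rw [Sylow.coe_subgroup_smul]
    exact ⟨⟨x, hPM hx⟩, hQ (Subgroup.mem_subgroupOf.2 hx), rfl⟩
  rw [hm] at h1
  exact h1

/-- An element of `M` conjugate into `T` is conjugate in `M` into `T`. -/
theorem exists_conj_mem {t d g : G} (ht : t ∈ T) (hd : d = g * t * g⁻¹) (hdM : d ∈ M) :
    ∃ m ∈ M, m * d * m⁻¹ ∈ T := by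
  have hP : IsPGroup 2 (Subgroup.zpowers d) := by
    have h1 : IsPGroup 2 (Subgroup.zpowers t) :=
      S.2.to_le (Subgroup.zpowers_le.2 (hT.1 ht))
    have h2 := h1.map (MulAut.conj g).toMonoidHom
    rwa [MonoidHom.map_zpowers, MulEquiv.coe_toMonoidHom, MulAut.conj_apply, ← hd] at h2
  obtain ⟨m, hm, hmx⟩ := exists_conj_le hT hSM hP (Subgroup.zpowers_le.2 hdM)
  refine ⟨m, hm, ?_⟩
  have := hT.2 t ht (m * g) (by
    have := hmx d (Subgroup.mem_zpowers d)
    rw [hd] at this
    simpa [mul_assoc] using this)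
  rw [hd]
  simpa [mul_assoc] using this

include hC

theorem centralizer_le {d : G} (hd : d ∈ involConj T) (hdM : d ∈ M) :
    Subgroup.centralizer ({d} : Set G) ≤ M := by
  obtain ⟨t, ht, hto, g, hg⟩ := hd
  obtain ⟨m, hm, hmd⟩ := exists_conj_mem hT hSM ht hg hdM
  refine centralizer_conj_le hm (hC _ hmd ?_)
  rw [show orderOf (m * d * m⁻¹) = orderOf d from (MulAut.conj m).orderOf_eq d, hg,
    show orderOf (g * t * g⁻¹) = orderOf t from (MulAut.conj g).orderOf_eq t, hto]

include hNS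

/-- An involution of `T` fixes one point. -/
theorem single_of_mem {t x : G} (ht : t ∈ T) (hto : orderOf t = 2) (hx : x * t * x⁻¹ ∈ M) :
    x ∈ M := by
  classical
  by_contra hxM
  set R : Subgroup G := (S : Subgroup G) ⊓ M.comap (MulAut.conj x).toMonoidHom with hR
  have hv₀R : t ∈ R := ⟨hT.1 ht, hx⟩
  have hRS : R ≤ (S : Subgroup G) := inf_le_left
  haveI : Fact (Nat.Prime 2) := ⟨Nat.prime_two⟩
  -- the centraliser of an involution of `T` in `R`
  have hCy : ∀ v ∈ T, orderOf v = 2 → v ∈ R →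
      ∀ c : G, Commute v c → x * c * x⁻¹ ∈ M := by
    intro v hvT hv hvR c hc
    have hvM : x * v * x⁻¹ ∈ M := hvR.2
    exact centralizer_le hT hSM hC ⟨v, hvT, hv, x, rfl⟩ hvM
      (mem_centralizer_conj (Subgroup.mem_centralizer_singleton_iff.2 hc.symm.eq))
  by_cases hSR : (S : Subgroup G) ≤ R
  · have h1 : ((S : Subgroup G).map (MulAut.conj x).toMonoidHom) ≤ M := by
      rintro _ ⟨s, hs, rfl⟩
      exact (hSR hs).2
    obtain ⟨m, hm, hms⟩ := exists_conj_le hT hSM (S.2.map _) h1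
    refine hxM ?_
    have hn : m * x ∈ Subgroup.normalizer ((S : Subgroup G) : Set G) := by
      rw [Subgroup.mem_normalizer_iff_map_conj_eq]
      refine Subgroup.eq_of_le_of_card_ge ?_
        (Subgroup.card_map_of_injective (MulAut.conj (m * x)).injective).ge
      rintro _ ⟨s, hs, rfl⟩
      have := hms (x * s * x⁻¹) ⟨s, hs, rfl⟩
      simpa [mul_assoc] using this
    simpa using M.mul_mem (M.inv_mem hm) (hNS hn)
  obtain ⟨s, hsS, hsR, hsN⟩ := ThompsonWielandt.exists_normalizer_gt S.2 hRS hSR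
  -- the normaliser of `R` in `S` centralises an involution of `T`
  set P := (S : Subgroup G) ⊓ Subgroup.normalizer (R : Set G) with hP
  have hR0 : R ⊓ T ≤ P := fun z hz => ⟨hRS hz.1, Subgroup.le_normalizer hz.1⟩
  haveI hnorm : ((R ⊓ T).subgroupOf P).Normal := by
    refine ⟨fun z hz g => ?_⟩
    have h1 : (g : G) * z * (g : G)⁻¹ ∈ R := (Subgroup.mem_normalizer_iff.1 g.2.2 z).1 hz.1
    exact ⟨h1, hT.2 z hz.2 g (hRS h1)⟩
  have hne : (R ⊓ T).subgroupOf P ≠ ⊥ := by
    intro e
    have : (⟨t, hR0 ⟨hv₀R, ht⟩⟩ : P) ∈ (R ⊓ T).subgroupOf P := ⟨hv₀R, ht⟩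
    rw [e, Subgroup.mem_bot] at this
    have e' : t = 1 := congrArg Subtype.val this
    rw [e'] at hto
    simp at hto
  have hP2 : IsPGroup 2 P := S.2.to_le inf_le_left
  obtain ⟨w, hw, hw1⟩ := (Subgroup.bot_or_exists_ne_one
    ((R ⊓ T).subgroupOf P ⊓ Subgroup.center P)).resolve_left
      (PGroups.normal_inf_center_ne_bot hP2 _ hne)
  obtain ⟨k, hk⟩ := hP2 w
  obtain ⟨j, -, hj⟩ := (Nat.dvd_prime_pow Nat.prime_two).1 (orderOf_dvd_of_pow_eq_one hk)
  obtain ⟨i, rfl⟩ : ∃ i, j = i + 1 := ⟨j - 1, by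
    rcases Nat.eq_zero_or_pos j with rfl | hpos
    · exact absurd (orderOf_eq_one_iff.1 (by simpa using hj)) hw1
    · omega⟩
  set v := w ^ 2 ^ i with hv
  have hvo : orderOf v = 2 := by
    rw [hv, orderOf_pow' _ (pow_ne_zero _ two_ne_zero), hj,
      Nat.gcd_eq_right (pow_dvd_pow 2 (Nat.le_succ i)), Nat.pow_succ,
      Nat.mul_div_cancel_left _ (pow_pos two_pos _)]
  have hvmem : v ∈ (R ⊓ T).subgroupOf P ⊓ Subgroup.center P := Subgroup.pow_mem _ hw _
  have hvR : (v : G) ∈ R := hvmem.1.1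
  have hvG : orderOf (v : G) = 2 := by rw [Subgroup.orderOf_coe, hvo]
  have hsC : x * s * x⁻¹ ∈ M := hCy v hvmem.1.2 hvG hvR s
    (congrArg Subtype.val (Subgroup.mem_center_iff.1 hvmem.2 ⟨s, hsS, hsN⟩)).symm
  exact hsR ⟨hsS, hsC⟩

/-- A strongly closed subgroup with the centralisers of its involutions inside a proper subgroup
satisfies the criterion. -/
theorem crit_of_closed (hM : M ≠ ⊤) (hex : ∃ t ∈ T, orderOf t = 2) : Crit M (involConj T) where
  ne_top := hM
  exists_mem := by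
    obtain ⟨t, ht, hto⟩ := hex
    exact ⟨t, ⟨t, ht, hto, 1, by simp⟩, hSM (hT.1 ht)⟩
  invol := by
    rintro _ ⟨t, -, hto, g, rfl⟩
    rw [show orderOf (g * t * g⁻¹) = orderOf t from (MulAut.conj g).orderOf_eq t, hto]
  conj := by
    rintro _ ⟨t, ht, hto, g, rfl⟩ k
    exact ⟨t, ht, hto, k * g, by group⟩
  meets := by
    rintro _ ⟨t, ht, -, g, rfl⟩
    exact ⟨g⁻¹, by simpa [mul_assoc] using hSM (hT.1 ht)⟩
  single := by
    rintro d ⟨t, ht, hto, g, rfl⟩ hdM k hk
    have h1 : g ∈ M := single_of_mem hT hSM hNS hC ht hto hdM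
    have h2 : k * g ∈ M := single_of_mem hT hSM hNS hC ht hto (by simpa [mul_assoc] using hk)
    simpa using M.mul_mem h2 (M.inv_mem h1)
  prod := by
    rintro d ⟨t, ht, hto, g, rfl⟩ d' ⟨t', ht', hto', g', rfl⟩ hdM hd'M hne hc
    have hg : g ∈ M := single_of_mem hT hSM hNS hC ht hto hdM
    have hg' : g' ∈ M := single_of_mem hT hSM hNS hC ht' hto' hd'M
    have h2 : ∀ x : G, orderOf x = 2 → x * x = 1 := fun x hx => by
      rw [← pow_two, ← hx, pow_orderOf_eq_one]
    set a := g * t * g⁻¹ with ha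
    set b := g' * t' * g'⁻¹ with hb
    have ha2 : a * a = 1 := h2 a (by
      rw [ha, show orderOf (g * t * g⁻¹) = orderOf t from (MulAut.conj g).orderOf_eq t, hto])
    have hb2 : b * b = 1 := h2 b (by
      rw [hb, show orderOf (g' * t' * g'⁻¹) = orderOf t' from (MulAut.conj g').orderOf_eq t', hto'])
    -- the four group lies in a conjugate of `S` inside `M`
    have hV : IsPGroup 2 (Subgroup.closure {a, b}) := by
      intro x
      refine ⟨1, ?_⟩
      obtain ⟨x, hx⟩ := x
      apply Subtype.ext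
      rw [SubgroupClass.coe_pow, pow_one, Subgroup.coe_one, pow_two]
      refine (SimsThree.exponent_two_of_gens (S := {a, b}) ?_ ?_ hx).1
      · rintro z (rfl | rfl) <;> assumption
      · rintro z (rfl | rfl) w (rfl | rfl)
        exacts [Commute.refl _, hc, hc.symm, Commute.refl _]
    obtain ⟨m, hm, hms⟩ := exists_conj_le hT hSM hV ((Subgroup.closure_le _).2
      (by rintro z (rfl | rfl) <;> assumption))
    have hma : m * a * m⁻¹ ∈ T := by
      have h1 := hms a (Subgroup.subset_closure (Or.inl rfl))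
      have := hT.2 t ht (m * g) (by simpa [ha, mul_assoc] using h1)
      simpa [ha, mul_assoc] using this
    have hmb : m * b * m⁻¹ ∈ T := by
      have h1 := hms b (Subgroup.subset_closure (Or.inr rfl))
      have := hT.2 t' ht' (m * g') (by simpa [hb, mul_assoc] using h1)
      simpa [hb, mul_assoc] using this
    refine centralizer_conj_le hm (hC _ ?_ ?_)
    · have := T.mul_mem hma hmb
      simpa [mul_assoc] using this
    · rw [show orderOf (m * (a * b) * m⁻¹) = orderOf (a * b) from (MulAut.conj m).orderOf_eq _]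
      refine orderOf_eq_prime ?_ ?_
      · rw [pow_two]
        calc a * b * (a * b) = a * (b * a) * b := by group
          _ = (a * a) * (b * b) := by rw [← hc.eq]; group
          _ = 1 := by rw [ha2, hb2, one_mul]
      · intro e
        exact hne (by rw [← mul_one a, ← hb2, ← mul_assoc, e, one_mul])

end Closed

end Cfsg.Agent.Lib.CritReduce20
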