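import Cfsg.Agent.Lib.CritReduce20.Basic
import Cfsg.Prelude.Def_PLocal

/-!
# The single fixed point criterion: the setting of the rows S1175, S1174, S3289, S1913

Owner: helper20.
-/

set_option autoImplicit false
set_option linter.unusedSectionVars false
set_option linter.style.haveILetI false

namespace Cfsg.Agent.Lib.CritReduce20

variable {G : Type*} [Group G]

/-- The setting of S1175. -/
theorem crit_of_conjugates {M : Subgroup G} {z : G} (hM : M ≠ ⊤) (hz : orderOf z = 2) (hzM : z ∈ M)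
    (h2 : ∀ g : G, g * z * g⁻¹ ∈ M → g ∈ M)
    (h3 : ∀ g : G, Commute z (g * z * g⁻¹) → g * z * g⁻¹ ≠ z →
      g * z * g⁻¹ ∈ M → Subgroup.centralizer ({z * (g * z * g⁻¹)} : Set G) ≤ M) :
    Crit M (conjugatesOf z) where
  ne_top := hM
  exists_mem := ⟨z, mem_conjugatesOf_self, hzM⟩
  invol := fun d hd => by
    obtain ⟨g, rfl⟩ := isConj_iff.1 hd
    rw [show orderOf (g * z * g⁻¹) = orderOf z from (MulAut.conj g).orderOf_eq z, hz]
  conj := fun d hd g => hd.trans (isConj_iff.2 ⟨g, rfl⟩)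
  meets := fun d hd => by
    obtain ⟨g, rfl⟩ := isConj_iff.1 hd
    exact ⟨g⁻¹, by simpa [mul_assoc] using hzM⟩
  single := fun d hd hdM k hk => by
    obtain ⟨g, rfl⟩ := isConj_iff.1 hd
    have h1 : k * g ∈ M := h2 _ (by simpa [mul_assoc] using hk)
    simpa using M.mul_mem h1 (M.inv_mem (h2 g hdM))
  prod := fun d hd d' hd' hdM hd'M hne hc => by
    obtain ⟨g, rfl⟩ := isConj_iff.1 hd
    obtain ⟨h, rfl⟩ := isConj_iff.1 hd'
    have hg := h2 g hdM
    have e : g⁻¹ * h * z * (g⁻¹ * h)⁻¹ = g⁻¹ * (h * z * h⁻¹) * g := by group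
    refine centralizer_conj_le (x := g⁻¹) (M.inv_mem hg) ?_
    have key := h3 (g⁻¹ * h) ?_ ?_ ?_
    · convert key using 3
      group
    · show z * _ = _ * z
      rw [e]
      calc z * (g⁻¹ * (h * z * h⁻¹) * g)
          = g⁻¹ * ((g * z * g⁻¹) * (h * z * h⁻¹)) * g := by group
        _ = g⁻¹ * ((h * z * h⁻¹) * (g * z * g⁻¹)) * g := by rw [hc.eq]
        _ = _ := by group
    · intro e'
      rw [e] at e'
      exact hne (by
        calc g * z * g⁻¹ = g * (g⁻¹ * (h * z * h⁻¹) * g) * g⁻¹ := by rw [e']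
          _ = h * z * h⁻¹ := by group)
    · rw [e]
      exact M.mul_mem (M.mul_mem (M.inv_mem hg) hd'M) hg

/-- A group with a central involution has no strongly embedded subgroup containing it. -/
theorem not_stronglyEmbedded_of_central [Finite G] {K : Subgroup G} {u : G} (hu : orderOf u = 2)
    (huK : u ∈ K) (hc : ∀ g : G, g * u = u * g) : ¬ Cfsg.IsStronglyEmbedded K := by
  rintro ⟨htop, -, hodd⟩
  obtain ⟨g, -, hg⟩ := SetLike.exists_of_lt (lt_top_iff_ne_top.2 htop)
  refine Nat.not_odd_iff_even.2 (even_iff_two_dvd.2 ?_) (hodd g hg)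
  rw [← hu]
  refine Subgroup.orderOf_dvd_natCard _ ⟨huK, ?_⟩
  exact ⟨u, huK, by simp [hc g]⟩

/-- The setting of S1913. -/
theorem crit_of_induction [Finite G] {H : Subgroup G} {z : G} (hz : orderOf z = 2) (hH : H ≠ ⊤)
    (hi : ∀ g : G, z ∈ H.map (MulAut.conj g).toMonoidHom ↔ g ∈ H)
    (hii : ∀ u : G, orderOf u = 2 → u * z = z * u → ¬ Subgroup.centralizer ({u} : Set G) ≤ H →
      Cfsg.IsStronglyEmbedded
        (H.subgroupOf (Subgroup.closure {x : G | IsConj z x ∧ x * u = u * x}))) :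
    Crit H (conjugatesOf z) := by
  have hzH : z ∈ H := by
    obtain ⟨y, hy, e⟩ := (hi 1).2 H.one_mem
    simpa [← e] using hy
  refine crit_of_conjugates hH hz hzH (fun g hg => ?_) (fun g hc hne hgM => ?_)
  · have := (hi g⁻¹).1 ⟨g * z * g⁻¹, hg, by simp [mul_assoc]⟩
    simpa using H.inv_mem this
  · set z' := g * z * g⁻¹ with hz'
    set u := z * z' with hu
    have hzz : z * z = 1 := by rw [← pow_two, ← hz, pow_orderOf_eq_one]
    have hz'2 : z' * z' = 1 := by
      rw [hz', show g * z * g⁻¹ * (g * z * g⁻¹) = g * (z * z) * g⁻¹ by group, hzz]; group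
    have hu2 : orderOf u = 2 := by
      refine orderOf_eq_prime ?_ (fun e => hne ?_)
      · rw [pow_two, hu]
        calc z * z' * (z * z') = z * (z' * z) * z' := by group
          _ = (z * z) * (z' * z') := by rw [← hc.eq]; group
          _ = 1 := by rw [hzz, hz'2, one_mul]
      · calc z' = (z * z) * z' := by rw [hzz, one_mul]
          _ = z * u := by rw [hu, mul_assoc]
          _ = z := by rw [e, mul_one]
    have huz : u * z = z * u := (((Commute.refl z).mul_right hc).eq).symm
    have huz' : z' * u = u * z' := ((hc.symm.mul_right (Commute.refl z'))).eq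
    by_contra hcon
    set L := Subgroup.closure {x : G | IsConj z x ∧ x * u = u * x} with hL
    have h1 : z ∈ L := Subgroup.subset_closure ⟨IsConj.refl z, huz.symm⟩
    have h2 : z' ∈ L := Subgroup.subset_closure ⟨isConj_iff.2 ⟨g, rfl⟩, huz'⟩
    have hcen : ∀ x ∈ L, x * u = u * x := by
      intro x hx
      induction hx using Subgroup.closure_induction with
      | mem y hy => exact hy.2
      | one => rw [one_mul, mul_one]
      | mul a b _ _ ha hb => exact ((show Commute a u from ha).mul_left hb).eq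
      | inv a _ ha => exact (show Commute a u from ha).inv_left.eq
    refine not_stronglyEmbedded_of_central (u := (⟨u, L.mul_mem h1 h2⟩ : L)) ?_ ?_ ?_
      (hii u hu2 huz hcon)
    · rw [← Subgroup.orderOf_coe, hu2]
    · exact Subgroup.mem_subgroupOf.2 (H.mul_mem hzH hgM)
    · exact fun x => Subtype.ext (hcen x x.2)

/-- The setting of S1174: a proper subgroup satisfying the criterion. -/
theorem exists_crit_of_closed [Finite G] [IsSimpleGroup G] (S : Sylow 2 G) {T : Subgroup G}
    (hT1 : T ≠ ⊥) (hT : Cfsg.IsStronglyClosed T (S : Subgroup G))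
    (hprop : (⨆ t : {t : G // t ∈ T ∧ orderOf t = 2},
      Subgroup.centralizer ({(t : G)} : Set G)) ≠ ⊤) :
    ∃ M : Subgroup G, (S : Subgroup G) ≤ M ∧ Crit M (involConj T) := by
  set W : Subgroup G := ⨆ t : {t : G // t ∈ T ∧ orderOf t = 2},
    Subgroup.centralizer ({(t : G)} : Set G) with hW
  haveI : Fact (Nat.Prime 2) := ⟨Nat.prime_two⟩
  obtain ⟨t, htT, hto⟩ : ∃ t ∈ T, orderOf t = 2 := by
    haveI : Nontrivial T := (Subgroup.nontrivial_iff_ne_bot T).2 hT1
    obtain ⟨n, hn, hc⟩ := (S.2.to_le hT.1).nontrivial_iff_card.1 inferInstance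
    obtain ⟨x, hx⟩ := exists_prime_orderOf_dvd_card' (G := T) 2 (hc ▸ dvd_pow_self 2 (by omega))
    exact ⟨x, x.2, by rwa [Subgroup.orderOf_coe]⟩
  have hle : ∀ t ∈ T, orderOf t = 2 → Subgroup.centralizer ({t} : Set G) ≤ W := fun t ht hto =>
    le_iSup (fun t : {t : G // t ∈ T ∧ orderOf t = 2} => Subgroup.centralizer ({(t : G)} : Set G))
      ⟨t, ht, hto⟩
  have hWne : W ≠ ⊥ := fun e => by
    have h1 : t ∈ Subgroup.centralizer ({t} : Set G) := Subgroup.mem_centralizer_singleton_iff.2 rfl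
    have h2 := hle t htT hto h1
    rw [e, Subgroup.mem_bot] at h2
    rw [h2, orderOf_one] at hto
    norm_num at hto
  have hM : Subgroup.normalizer (W : Set G) ≠ ⊤ := by
    intro e
    haveI : W.Normal := Subgroup.normalizer_eq_top_iff.1 e
    rcases Subgroup.Normal.eq_bot_or_eq_top (H := W) inferInstance with h | h
    exacts [hWne h, hprop h]
  have hkey : ∀ n : G, (∀ x ∈ T, n * x * n⁻¹ ∈ T) → ∀ c ∈ W, n * c * n⁻¹ ∈ W := by
    intro n hn c hc
    have : W ≤ W.comap (MulAut.conj n).toMonoidHom := by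
      refine iSup_le fun t x hx => ?_
      exact hle _ (hn _ t.2.1)
        (by rw [show orderOf (n * (t : G) * n⁻¹) = orderOf (t : G) from (MulAut.conj n).orderOf_eq _,
          t.2.2]) (mem_centralizer_conj hx)
    exact this hc
  have hNT : ∀ n : G, (∀ x ∈ T, n * x * n⁻¹ ∈ T) → n ∈ Subgroup.normalizer (W : Set G) := by
    intro n hn
    rw [Subgroup.mem_normalizer_iff_map_conj_eq]
    refine Subgroup.eq_of_le_of_card_ge ?_
      (Subgroup.card_map_of_injective (MulAut.conj n).injective).ge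
    rintro _ ⟨c, hc, rfl⟩
    exact hkey n hn c hc
  have hSM : (S : Subgroup G) ≤ Subgroup.normalizer (W : Set G) := fun s hs =>
    hNT s fun x hx => hT.2 x hx s ((S : Subgroup G).mul_mem
      ((S : Subgroup G).mul_mem hs (hT.1 hx)) ((S : Subgroup G).inv_mem hs))
  refine ⟨_, hSM, crit_of_closed hT hSM (fun n hn => hNT n fun x hx => hT.2 x hx n
    ((Subgroup.mem_normalizer_iff.1 hn x).1 (hT.1 hx))) (fun t ht hto => ?_) hM ⟨t, htT, hto⟩⟩
  exact (hle t ht hto).trans Subgroup.le_normalizer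

end Cfsg.Agent.Lib.CritReduce20
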